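import Groth.Agent.AbDualLib.Rigidify
import Groth.Agent.AbDualLib.Lambda
import Groth.Agent.FlatMor12.Cube.Triple
import Groth.Agent.AbVarLib.GeomIntegralSmooth

/-!
# Vanishing of `lambda` of a class can be tested at one closed point of a connected base
-/

set_option autoImplicit false
set_option linter.style.haveILetI false
set_option backward.isDefEq.respectTransparency.types false
set_option maxHeartbeats 1000000

universe u

open CategoryTheory CategoryTheory.Limits MonoidalCategory CartesianMonoidalCategory MonObj GrpObj AlgebraicGeometry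
  TopologicalSpace
open Groth.Agent.PicLib Groth.Agent.AbDualLib

namespace Groth.Agent.AbDualS27

variable {S : Scheme.{u}} {A At : Over S} [GrpObj A] [GrpObj At]
  {φ : ∀ T : Over S, PicF.Cl (PicF.XT A.hom T) → (T ⟶ At)}

/-- A rigidified Pic⁰ class with trivial point is trivial. -/
theorem eq_one_of_phi_eq_one [IsProper A.hom] [Smooth A.hom] [GeometricallyConnected A.hom]
    (hφ : AbDual.IsDualAV Scheme.fppfPrecoverage A At φ) {T : Over S} (c : PicM (A ⊗ T).left)
    (hc : AbDual.IsPicZeroCl A.hom T c.val) (h : φ T c.val = 1) (hr : ev c (1 : T ⟶ A) (𝟙 T) = 1) : c = 1 := by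
  have h1 : φ T c.val = φ T (1 : PicM (A ⊗ T).left).val := h.trans (phi_one hφ T).symm
  obtain ⟨R, hR, hR'⟩ := hφ.relPic.locallyInjective T c.val (1 : PicM (A ⊗ T).left).val hc
    (AbCubeLib.isPicZeroCl_one T) h1
  haveI : IsProper (snd A T).left := inferInstanceAs (IsProper (pullback.snd A.hom T.hom))
  haveI : Flat (snd A T).left := inferInstanceAs (Flat (pullback.snd A.hom T.hom))
  haveI : LocallyOfFinitePresentation (snd A T).left :=
    inferInstanceAs (LocallyOfFinitePresentation (pullback.snd A.hom T.hom))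
  haveI : GeometricallyConnected (snd A T).left := inferInstanceAs (GeometricallyConnected (pullback.snd A.hom T.hom))
  haveI : GeometricallyIntegral A.hom := AbVarLib.geometricallyIntegral_of_smooth A.hom
  haveI : GeometricallyReduced (snd A T).left := inferInstanceAs (GeometricallyReduced (pullback.snd A.hom T.hom))
  have he : (lift (1 : T ⟶ A) (𝟙 T)).left ≫ (snd A T).left = 𝟙 T.left := by
    rw [← Over.comp_left, lift_snd, Over.id_left]
  have key := eq_pull_of_trivial_on_cover (snd A T).left (lift (1 : T ⟶ A) (𝟙 T)).left he hR c (fun U u hu => by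
    let α : pullback (snd A T).left u ⟶ PicF.XT A.hom (AbDual.ovr T u) :=
      pullback.lift (pullback.fst _ u ≫ (fst A T).left) (pullback.snd _ u) (by
        rw [Category.assoc, Over.w (fst A T)]
        show pullback.fst _ u ≫ (A ⊗ T).hom = pullback.snd _ u ≫ u ≫ T.hom
        rw [← pullback.condition_assoc, Over.w (snd A T)])
    have e : α ≫ PicF.XTmap A.hom (AbDual.ovrHom T u) = pullback.fst _ u := by
      rw [AbCubeLib.XTmap_eq]
      apply pullback.hom_ext
      · refine (Category.assoc _ _ _).trans ?_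
        refine (congrArg (α ≫ ·) (congrArg (fun t => Over.Hom.left t)
          (lift_fst (fst A (AbDual.ovr T u)) (snd A (AbDual.ovr T u) ≫ AbDual.ovrHom T u)))).trans ?_
        exact pullback.lift_fst _ _ _
      · refine (Category.assoc _ _ _).trans ?_
        refine (congrArg (α ≫ ·) (congrArg (fun t => Over.Hom.left t)
          (lift_snd (fst A (AbDual.ovr T u)) (snd A (AbDual.ovr T u) ≫ AbDual.ovrHom T u)))).trans ?_
        refine (Category.assoc _ _ _).symm.trans ?_
        exact (congrArg (· ≫ u) (pullback.lift_snd _ _ _)).trans pullback.condition.symm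
    have h2 : PicM.pull (PicF.XTmap A.hom (AbDual.ovrHom T u)) c =
        PicM.pull (PicF.XTmap A.hom (AbDual.ovrHom T u)) 1 := PicM.ext (hR' u hu)
    rw [← e, ← PicM.pull_pull, h2, map_one, map_one])
  rw [key, show PicM.pull (lift (1 : T ⟶ A) (𝟙 T)).left c = 1 from hr, map_one]

variable [IsProper A.hom] [Smooth A.hom] [GeometricallyConnected A.hom]

/-- The normalised Mumford class is trivial on a fibre where its point is trivial. -/
theorem pull_eq_one_of_comp_eq_one (hφ : AbDual.IsDualAV Scheme.fppfPrecoverage A At φ) (N : PicM (A ⊗ A).left)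
    (hN : AbDual.IsPicZeroCl A.hom A N.val) (hax : ev N (1 : A ⟶ A) (𝟙 A) = 1) {T : Over S} (g : T ⟶ A)
    (h : g ≫ φ A N.val = 1) : ev N (fst A T) (snd A T ≫ g) = 1 := by
  refine eq_one_of_phi_eq_one hφ _ (isPicZeroCl_pb g _ (lift_snd _ _) hN) ((phi_pb hφ g N hN).trans h) ?_
  show PicM.pull (lift (1 : T ⟶ A) (𝟙 T)).left (ev N _ _) = 1
  rw [pull_ev, show lift (1 : T ⟶ A) (𝟙 T) ≫ fst A T = g ≫ (1 : A ⟶ A) by simp,
    show lift (1 : T ⟶ A) (𝟙 T) ≫ snd A T ≫ g = g ≫ 𝟙 A by simp, ← pull_ev, hax, map_one]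

/-- If the point attached to a Mumford class vanishes on the fibre over a closed point, it vanishes. -/
theorem lambda_eq_one [ConnectedSpace S] (hφ : AbDual.IsDualAV Scheme.fppfPrecoverage A At φ) (a : PicM A.left)
    (N : PicM (A ⊗ A).left)
    (hN : PicM.pull μ[A].left a = N * PicM.pull (fst A A).left a * PicM.pull (snd A A).left a) (s : S)
    (h : pullback.fst A.hom (S.fromSpecResidueField s) ≫ (φ A N.val).left =
      pullback.fst A.hom (S.fromSpecResidueField s) ≫ (1 : A ⟶ At).left) :
    φ A N.val = 1 := by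
  have hN0 := isPicZeroCl_lambda a N hN
  let b : PicM A.left := PicM.pull (1 : A ⟶ A).left a
  let N' : PicM (A ⊗ A).left := N * PicM.pull (snd A A).left b
  obtain ⟨ha1, ha2⟩ := lambda_axis a N hN
  have hsnd : ∀ {V : Over S} (x y : V ⟶ A), ev (PicM.pull (snd A A).left b) x y = PicM.pull (1 : V ⟶ A).left a := by
    intro V x y
    rw [ev, PicM.pull_pull, ← Over.comp_left, lift_snd, PicM.pull_pull, ← Over.comp_left, MonObj.comp_one]
  have e1 : ev N' (𝟙 A) (1 : A ⟶ A) = 1 := by
    rw [ev, map_mul]
    exact (congrArg₂ (· * ·) rfl (hsnd _ _)).trans ha1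
  have e2 : ev N' (1 : A ⟶ A) (𝟙 A) = 1 := by
    rw [ev, map_mul]
    exact (congrArg₂ (· * ·) rfl (hsnd _ _)).trans ha2
  have hN' : AbDual.IsPicZeroCl A.hom A N'.val := isPicZeroCl_mul_base hN0 b
  have hb0 : AbDual.IsPicZeroCl A.hom A (PicM.pull (snd A A).left b).val := by
    have h := isPicZeroCl_mul_base (A := A) (c := 1) (AbCubeLib.isPicZeroCl_one A) b
    rwa [_root_.one_mul] at h
  have hφN : φ A N'.val = φ A N.val := by rw [phi_mul hφ N _ hN0 hb0, phi_base hφ, _root_.mul_one]
  let T : Over S := Over.mk (pullback.fst A.hom (S.fromSpecResidueField s) ≫ A.hom)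
  let g : T ⟶ A := Over.homMk (pullback.fst A.hom (S.fromSpecResidueField s)) rfl
  have hg : g ≫ φ A N'.val = 1 := by
    rw [hφN, ← MonObj.comp_one g]
    exact Over.OverMorphism.ext h
  have hfib := pull_eq_one_of_comp_eq_one hφ N' hN' e2 g hg
  haveI : GeometricallyIntegral A.hom := AbVarLib.geometricallyIntegral_of_smooth A.hom
  let e : S ⟶ A.left := η[A].left
  have he : e ≫ A.hom = 𝟙 S := Over.w η[A]
  have hone : ∀ {V : Over S}, (1 : V ⟶ A).left = V.hom ≫ e := fun {V} => by
    rw [show (1 : V ⟶ A) = toUnit V ≫ η[A] from rfl, Over.comp_left,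
      show (toUnit V).left = V.hom from (Category.comp_id _).symm.trans (Over.w (toUnit V))]
  let f2 := pullback.fst A.hom A.hom ≫ A.hom
  let a3 : PicM (pullback f2 (𝟙 S)) := PicM.pull (pullback.fst f2 (𝟙 S)) N'
  let ax : A.left ⟶ pullback A.hom A.hom := pullback.lift (A.hom ≫ e) (𝟙 _) (by
    rw [Category.assoc, he, Category.comp_id, Category.id_comp])
  let ay : A.left ⟶ pullback A.hom A.hom := pullback.lift (𝟙 _) (A.hom ≫ e) (by
    rw [Category.assoc, he, Category.comp_id, Category.id_comp])
  let m₁ : pullback (ax ≫ f2) (𝟙 S) ⟶ pullback f2 (𝟙 S) :=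
    pullback.lift (pullback.fst _ _ ≫ ax) (pullback.snd _ _) (by rw [Category.assoc]; exact pullback.condition)
  let m₂ : pullback (ay ≫ f2) (𝟙 S) ⟶ pullback f2 (𝟙 S) :=
    pullback.lift (pullback.fst _ _ ≫ ay) (pullback.snd _ _) (by rw [Category.assoc]; exact pullback.condition)
  have h₁ : PicM.pull m₁ a3 = 1 := by
    rw [PicM.pull_pull, show m₁ ≫ pullback.fst f2 (𝟙 S) = pullback.fst _ _ ≫ ax from pullback.lift_fst _ _ _,
      ← PicM.pull_pull, show ax = (lift (1 : A ⟶ A) (𝟙 A)).left from ?_]
    · exact (congrArg (PicM.pull _) e2).trans (map_one _)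
    · apply pullback.hom_ext
      · exact (pullback.lift_fst _ _ _).trans (((congrArg (fun t => Over.Hom.left t)
          (lift_fst (1 : A ⟶ A) (𝟙 A))).trans hone).symm)
      · exact (pullback.lift_snd _ _ _).trans ((congrArg (fun t => Over.Hom.left t)
          (lift_snd (1 : A ⟶ A) (𝟙 A))).symm)
  have h₂ : PicM.pull m₂ a3 = 1 := by
    rw [PicM.pull_pull, show m₂ ≫ pullback.fst f2 (𝟙 S) = pullback.fst _ _ ≫ ay from pullback.lift_fst _ _ _,
      ← PicM.pull_pull, show ay = (lift (𝟙 A) (1 : A ⟶ A)).left from ?_]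
    · exact (congrArg (PicM.pull _) e1).trans (map_one _)
    · apply pullback.hom_ext
      · exact (pullback.lift_fst _ _ _).trans ((congrArg (fun t => Over.Hom.left t)
          (lift_fst (𝟙 A) (1 : A ⟶ A))).symm)
      · exact (pullback.lift_snd _ _ _).trans (((congrArg (fun t => Over.Hom.left t)
          (lift_snd (𝟙 A) (1 : A ⟶ A))).trans hone).symm)
  let π := pullback.snd f2 (𝟙 S)
  have hπ : π = pullback.fst f2 (𝟙 S) ≫ f2 := ((Category.comp_id _).symm.trans pullback.condition.symm)
  have h₃ : PicM.pull (π.fiberι s) a3 = 1 := by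
    let j := π.fiberι s ≫ pullback.fst f2 (𝟙 S)
    let t1 : π.fiber s ⟶ A.left := j ≫ pullback.fst A.hom A.hom
    let t2 : π.fiber s ⟶ pullback A.hom (S.fromSpecResidueField s) :=
      pullback.lift (j ≫ pullback.snd A.hom A.hom) (π.fiberToSpecResidueField s) (by
        refine Eq.trans ?_ ((congrArg (π.fiberι s ≫ ·) hπ.symm).trans (π.fiber_fac s))
        simp only [j, f2, Category.assoc, pullback.condition])
    let gam : π.fiber s ⟶ (A ⊗ T).left := pullback.lift t1 t2 (by
      show t1 ≫ A.hom = t2 ≫ pullback.fst A.hom (S.fromSpecResidueField s) ≫ A.hom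
      rw [← Category.assoc t2 (pullback.fst A.hom (S.fromSpecResidueField s)) A.hom, show t2 ≫ pullback.fst A.hom (S.fromSpecResidueField s) =
        j ≫ pullback.snd A.hom A.hom from pullback.lift_fst _ _ _]
      simp only [t1, Category.assoc, pullback.condition])
    have egam : gam ≫ (lift (fst A T) (snd A T ≫ g)).left = j := by
      apply pullback.hom_ext
      · rw [Category.assoc]
        refine (congrArg (gam ≫ ·) (congrArg (fun t => Over.Hom.left t) (lift_fst (fst A T) (snd A T ≫ g)))).trans ?_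
        exact pullback.lift_fst _ _ _
      · rw [Category.assoc]
        refine (congrArg (gam ≫ ·) (congrArg (fun t => Over.Hom.left t) (lift_snd (fst A T) (snd A T ≫ g)))).trans ?_
        refine (Category.assoc _ _ _).symm.trans ?_
        exact (congrArg (· ≫ g.left) (pullback.lift_snd _ _ _)).trans (pullback.lift_fst _ _ _)
    rw [PicM.pull_pull, show π.fiberι s ≫ pullback.fst f2 (𝟙 S) = gam ≫ (lift (fst A T) (snd A T ≫ g)).left from egam.symm,
      ← PicM.pull_pull]
    exact (congrArg (PicM.pull gam) hfib).trans (map_one _)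
  obtain ⟨W, hW, hsW, hWa⟩ := FlatMor12.Cube.exists_clopen_trivial_triple A.hom A.hom (𝟙 S) e he e he a3
    ax (pullback.lift_fst _ _ _) (pullback.lift_snd _ _ _) ay (pullback.lift_fst _ _ _) (pullback.lift_snd _ _ _)
    m₁ (pullback.lift_fst _ _ _) (pullback.lift_snd _ _ _) m₂ (pullback.lift_fst _ _ _) (pullback.lift_snd _ _ _)
    h₁ h₂ s h₃
  have hWtop : W = ⊤ := by
    rcases isClopen_iff.1 (⟨hW, W.isOpen⟩ : IsClopen (W : Set S)) with h | h
    · exact absurd (show s ∈ (W : Set S) from hsW) (by rw [h]; exact id)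
    · exact SetLike.coe_injective h
  subst hWtop
  rw [Scheme.Hom.preimage_top] at hWa
  have ha3 : a3 = 1 := by
    have h2 := congrArg (PicM.pull (Scheme.topIso (pullback f2 (𝟙 S))).inv) hWa
    rwa [PicM.pull_pull, ← Scheme.topIso_hom, Iso.inv_hom_id, PicM.pull_id, map_one] at h2
  have hN1 : N' = 1 := by
    let sec : (A ⊗ A).left ⟶ pullback f2 (𝟙 S) := pullback.lift (𝟙 _) f2 (by
      rw [Category.comp_id]; exact Category.id_comp _)
    have h2 := congrArg (PicM.pull sec) ha3
    rw [map_one] at h2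
    refine Eq.trans ?_ h2
    show N' = PicM.pull sec (PicM.pull (pullback.fst f2 (𝟙 S)) N')
    rw [PicM.pull_pull, show sec ≫ pullback.fst f2 (𝟙 S) = 𝟙 _ from pullback.lift_fst _ _ _]
    exact (PicM.pull_id _).symm
  rw [← hφN, hN1]
  exact phi_one hφ A

end Groth.Agent.AbDualS27
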